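import Mathlib

/-!
Flatness lemmas for an abstract right exact bifunctor on an abelian category.
-/

universe v u

open CategoryTheory Limits

namespace Groth.Agent.ModTensor

variable {A : Type u} [Category.{v} A] [Abelian A]

/-- an additive functor preserving monos and finite colimits is exact -/
theorem exact_of_preservesMonos (F : A ⥤ A) [PreservesFiniteColimits F] [F.PreservesMonomorphisms] :
    PreservesFiniteLimits F := by
  haveI : PreservesBinaryBiproducts F := preservesBinaryBiproducts_of_preservesBinaryCoproducts _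
  haveI : F.Additive := Functor.additive_of_preservesBinaryBiproducts _
  haveI : F.PreservesHomology := F.preservesHomology_of_preservesMonos_and_cokernels
  exact F.preservesFiniteLimits_of_preservesHomology

variable (T : A ⥤ A ⥤ A) [∀ X, PreservesFiniteColimits (T.obj X)] [∀ X, PreservesFiniteColimits (T.flip.obj X)]

theorem exact_map_of_epi {F : A ⥤ A} [PreservesFiniteColimits F] [F.PreservesZeroMorphisms] (S : ShortComplex A)
    (hS : S.Exact) [Epi S.g] : (S.map F).Exact :=
  hS.map_of_epi_of_preservesCokernel F inferInstance inferInstance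

/-- tensoring a short exact sequence with flat cokernel by an object with a flat presentation -/
theorem mono_map_of_flat_X₃ (S : ShortComplex A) (hS : S.ShortExact) [(T.obj S.X₃).PreservesMonomorphisms]
    {G P : A} (π : P ⟶ G) [Epi π] [(T.flip.obj P).PreservesMonomorphisms] :
    Mono ((T.flip.obj G).map S.f) := by
  haveI := hS.mono_f
  haveI := hS.epi_g
  haveI : ∀ X, (T.obj X).PreservesZeroMorphisms := fun X =>
    haveI : PreservesBinaryBiproducts (T.obj X) := preservesBinaryBiproducts_of_preservesBinaryCoproducts _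
    haveI : (T.obj X).Additive := Functor.additive_of_preservesBinaryBiproducts _
    inferInstance
  haveI : ∀ X, (T.flip.obj X).PreservesZeroMorphisms := fun X =>
    haveI : PreservesBinaryBiproducts (T.flip.obj X) := preservesBinaryBiproducts_of_preservesBinaryCoproducts _
    haveI : (T.flip.obj X).Additive := Functor.additive_of_preservesBinaryBiproducts _
    inferInstance
  let K := ShortComplex.mk (kernel.ι π) π (kernel.condition π)
  have hK : K.Exact := ShortComplex.exact_of_f_is_kernel _ (kernelIsKernel π)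
  have n1 : ∀ {X Y : A} (a : X ⟶ Y) {Z W : A} (b : Z ⟶ W),
      (T.obj X).map b ≫ (T.map a).app W = (T.map a).app Z ≫ (T.obj Y).map b := fun a _ _ b => (T.map a).naturality b
  refine Preadditive.mono_of_cancel_zero _ fun {B} x hx => ?_
  change x ≫ (T.map S.f).app G = 0 at hx
  obtain ⟨B₁, q₁, hq₁, y, hy⟩ := surjective_up_to_refinements_of_epi ((T.obj S.X₁).map π) x
  have hy0 : (y ≫ (T.map S.f).app P) ≫ (T.obj S.X₂).map π = 0 := by
    rw [Category.assoc, ← n1, ← Category.assoc]
    refine (congrArg (· ≫ (T.map S.f).app G) hy.symm).trans ?_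
    rw [Category.assoc, hx, comp_zero]
  obtain ⟨B₂, q₂, hq₂, (z : B₂ ⟶ (T.obj S.X₂).obj (kernel π)), hz⟩ := (ShortComplex.exact_iff_exact_up_to_refinements _).1
    (exact_map_of_epi (F := T.obj S.X₂) K hK) _ hy0
  change q₂ ≫ y ≫ (T.map S.f).app P = z ≫ (T.obj S.X₂).map (kernel.ι π) at hz
  have hz0 : z ≫ (T.map S.g).app (kernel π) = 0 := by
    rw [← cancel_mono ((T.obj S.X₃).map (kernel.ι π)), zero_comp, Category.assoc, ← n1, ← Category.assoc, ← hz]
    have h0 : (T.map S.f).app P ≫ (T.map S.g).app P = 0 :=
      ((T.flip.obj P).map_comp S.f S.g).symm.trans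
        ((congrArg (T.flip.obj P).map S.zero).trans ((T.flip.obj P).map_zero _ _))
    simp only [Category.assoc, h0, comp_zero]
  obtain ⟨B₃, q₃, hq₃, (w : B₃ ⟶ (T.obj S.X₁).obj (kernel π)), hw⟩ := (ShortComplex.exact_iff_exact_up_to_refinements _).1
    (exact_map_of_epi (F := T.flip.obj (kernel π)) S hS.exact) z hz0
  change q₃ ≫ z = w ≫ (T.map S.f).app (kernel π) at hw
  haveI : Mono ((T.map S.f).app P) := (inferInstance : Mono ((T.flip.obj P).map S.f))
  have h1 : q₃ ≫ q₂ ≫ y = w ≫ (T.obj S.X₁).map (kernel.ι π) := by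
    rw [← cancel_mono ((T.map S.f).app P), Category.assoc, Category.assoc, Category.assoc, hz, n1, reassoc_of% hw]
  have h2 : (q₃ ≫ q₂ ≫ q₁) ≫ x = 0 := by
    rw [Category.assoc, Category.assoc, hy, ← Category.assoc q₂, ← Category.assoc q₃, h1, Category.assoc,
      ← Functor.map_comp, kernel.condition, Functor.map_zero, comp_zero]
  rwa [← cancel_epi (q₃ ≫ q₂ ≫ q₁), comp_zero]

theorem shortExact_map_of_flat_X₃ (S : ShortComplex A) (hS : S.ShortExact) [(T.obj S.X₃).PreservesMonomorphisms]
    (G : A) [(T.flip.obj G).PreservesZeroMorphisms] {P : A} (π : P ⟶ G) [Epi π]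
    [(T.flip.obj P).PreservesMonomorphisms] : (S.map (T.flip.obj G)).ShortExact := by
  haveI := hS.epi_g
  exact
    { exact := exact_map_of_epi S hS.exact
      mono_f := mono_map_of_flat_X₃ T S hS π
      epi_g := (inferInstance : Epi ((T.flip.obj G).map S.g)) }

/-- extensions and kernels of flat objects are flat -/
theorem flat_two_of_three (S : ShortComplex A) (hS : S.ShortExact) [(T.obj S.X₃).PreservesMonomorphisms]
    (hP : ∀ G : A, ∃ (P : A) (π : P ⟶ G), Epi π ∧ (T.flip.obj P).PreservesMonomorphisms) :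
    ((T.obj S.X₁).PreservesMonomorphisms → (T.obj S.X₂).PreservesMonomorphisms) ∧
    ((T.obj S.X₂).PreservesMonomorphisms → (T.obj S.X₁).PreservesMonomorphisms) := by
  haveI : ∀ X, (T.flip.obj X).PreservesZeroMorphisms := fun X =>
    haveI : PreservesBinaryBiproducts (T.flip.obj X) := preservesBinaryBiproducts_of_preservesBinaryCoproducts _
    haveI : (T.flip.obj X).Additive := Functor.additive_of_preservesBinaryBiproducts _
    inferInstance
  have hs : ∀ G, (S.map (T.flip.obj G)).ShortExact := fun G => by
    obtain ⟨P, π, hπ, hP⟩ := hP G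
    exact shortExact_map_of_flat_X₃ T S hS G π
  refine ⟨fun h => ⟨fun {X Y} a _ => ?_⟩, fun h => ⟨fun {X Y} a _ => ?_⟩⟩
  · haveI := (hs X).mono_f
    haveI := (hs Y).mono_f
    let φ : S.map (T.flip.obj X) ⟶ S.map (T.flip.obj Y) :=
      { τ₁ := (T.obj S.X₁).map a
        τ₂ := (T.obj S.X₂).map a
        τ₃ := (T.obj S.X₃).map a
        comm₁₂ := (T.map S.f).naturality a
        comm₂₃ := (T.map S.g).naturality a }
    haveI : Mono φ.τ₁ := (inferInstance : Mono ((T.obj S.X₁).map a))
    haveI : Mono φ.τ₃ := (inferInstance : Mono ((T.obj S.X₃).map a))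
    exact ShortComplex.mono_τ₂_of_exact_of_mono φ (hs X).exact
  · haveI := (hs X).mono_f
    have e : (T.obj S.X₁).map a ≫ (T.map S.f).app Y = (T.map S.f).app X ≫ (T.obj S.X₂).map a :=
      (T.map S.f).naturality a
    haveI : Mono ((T.map S.f).app X) := (inferInstance : Mono (S.map (T.flip.obj X)).f)
    haveI : Mono ((T.obj S.X₁).map a ≫ (T.map S.f).app Y) := by rw [e]; infer_instance
    exact mono_of_mono _ ((T.map S.f).app Y)

end Groth.Agent.ModTensor
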