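import Groth.Agent.ModTensor.Basic
import Groth.Agent.ModTensor.Bifunctor

/-!
Flat sheaves of modules: associativity, enough flats, colimits, short exact sequences.
-/

universe u

open CategoryTheory MonoidalCategory Opposite Limits

namespace Groth.Agent.ModTensor

variable {C : Type u} [SmallCategory C]

section presheaf

variable {R : Cᵒᵖ ⥤ CommRingCat.{u}}

instance preservesColimits_tensorLeft_obj (X : PresheafOfModules.{u} (R ⋙ forget₂ CommRingCat.{u} RingCat.{u})) :
    PreservesFiniteColimits ((curriedTensor _).obj X) := by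
  haveI : PreservesColimitsOfSize.{u, u} ((curriedTensor _).obj X) :=
    inferInstanceAs (PreservesColimitsOfSize.{u, u} (tensorLeft X))
  exact PreservesColimitsOfSize.preservesFiniteColimits.{u, u} _

instance preservesColimits_tensorRight_obj (X : PresheafOfModules.{u} (R ⋙ forget₂ CommRingCat.{u} RingCat.{u})) :
    PreservesFiniteColimits ((curriedTensor _).flip.obj X) := by
  haveI : PreservesColimitsOfSize.{u, u} ((curriedTensor _).flip.obj X) :=
    inferInstanceAs (PreservesColimitsOfSize.{u, u} (tensorRight X))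
  exact PreservesColimitsOfSize.preservesFiniteColimits.{u, u} _

/-- sectionwise flat presheaves are flat -/
theorem preservesMonos_tensorRight (F : PresheafOfModules.{u} (R ⋙ forget₂ CommRingCat.{u} RingCat.{u}))
    (hF : ∀ X : Cᵒᵖ, Module.Flat (R.obj X) (F.obj X)) : (tensorRight F).PreservesMonomorphisms := ⟨fun {A B} f hf => by
  refine PresheafOfModules.mono_of_injective fun X => ?_
  haveI := hF X
  let l : A.obj X →ₗ[R.obj X] B.obj X := (f.app X).hom
  exact Module.Flat.rTensor_preserves_injective_linearMap (M := (F.obj X : Type u)) l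
    (PresheafOfModules.injective_of_mono f X)⟩

/-- a free presheaf of modules mapping onto `F` -/
theorem exists_epi_flat (F : PresheafOfModules.{u} (R ⋙ forget₂ CommRingCat.{u} RingCat.{u})) :
    ∃ (P : PresheafOfModules.{u} (R ⋙ forget₂ CommRingCat.{u} RingCat.{u})) (π : P ⟶ F),
      (∀ X : Cᵒᵖ, Module.Flat (R.obj X) (P.obj X)) ∧ Epi π := by
  refine ⟨PresheafOfModules.freeObj (F.presheaf ⋙ forget _), PresheafOfModules.freeObjDesc (𝟙 _), fun X => ?_, ?_⟩
  · exact Module.Flat.of_free (R := R.obj X) (M := (F.presheaf ⋙ forget _).obj X →₀ R.obj X)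
  · refine PresheafOfModules.epi_of_surjective fun X x => ?_
    refine ⟨Finsupp.single x 1, ?_⟩
    exact ModuleCat.freeDesc_apply _ x

end presheaf

variable {J : GrothendieckTopology C} (O : Sheaf J CommRingCat.{u})

/-- `F ⊗ - ≅ - ⊗ F` -/
noncomputable def commIso (F : ModSite.Mod O) : (ModSite.tensorBi O).obj F ≅ (ModSite.tensorBi O).flip.obj F :=
  NatIso.ofComponents (fun G => (sh O).mapIso (β_ (psh F) (psh G))) fun {G H} f =>
    ((sh O).map_comp _ _).symm.trans ((congrArg (sh O).map
      (BraidedCategory.braiding_naturality_right (psh F)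
        (SheafOfModules.forget (ModSite.ringSh O) |>.map f : psh G ⟶ psh H))).trans ((sh O).map_comp _ _))

instance (F : ModSite.Mod O) : PreservesColimitsOfSize.{u, u} ((ModSite.tensorBi O).obj F) :=
  preservesColimits_of_natIso (commIso O F).symm

instance preservesFiniteColimits_obj (F : ModSite.Mod O) : PreservesFiniteColimits ((ModSite.tensorBi O).obj F) :=
  PreservesColimitsOfSize.preservesFiniteColimits.{u, u} _

instance preservesFiniteColimits_flip (F : ModSite.Mod O) :
    PreservesFiniteColimits ((ModSite.tensorBi O).flip.obj F) :=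
  PreservesColimitsOfSize.preservesFiniteColimits.{u, u} _

variable {O}

theorem isFlat_iff (F : ModSite.Mod O) :
    ModSite.IsFlat F ↔ ((ModSite.tensorBi O).flip.obj F).PreservesMonomorphisms := by
  refine ⟨fun h => ?_, fun h => ⟨exact_of_preservesMonos _, inferInstance⟩⟩
  haveI := h.1
  infer_instance

theorem preservesMonos_obj {F : ModSite.Mod O} (h : ModSite.IsFlat F) :
    ((ModSite.tensorBi O).obj F).PreservesMonomorphisms :=
  (Functor.preservesMonomorphisms.iso_iff (commIso O F)).2 ((isFlat_iff F).1 h)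

theorem isFlat_of_obj {F : ModSite.Mod O} (h : ((ModSite.tensorBi O).obj F).PreservesMonomorphisms) :
    ModSite.IsFlat F :=
  (isFlat_iff F).2 ((Functor.preservesMonomorphisms.iso_iff (commIso O F)).1 h)

variable (O) in
/-- the forgetful functor to presheaves over `O` -/
noncomputable abbrev fgt : ModSite.Mod O ⥤ Psh O := SheafOfModules.forget (ModSite.ringSh O)

/-- `- ⊗ (sheafify P) ≅ forget ⋙ (- ⊗ P) ⋙ sheafify` -/
noncomputable def tensorShIso (P : Psh O) :
    (fgt O) ⋙ tensorRight P ⋙ sh O ≅
      (ModSite.tensorBi O).flip.obj ((sh O).obj P) :=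
  NatIso.ofComponents
    (fun G => (@asIso _ _ _ _ ((sh O).map (psh G ◁ η P)) (isIso_sh_whiskerLeft (psh G) (η P)) :
      (sh O).obj (psh G ⊗ P) ≅ ((ModSite.tensorBi O).flip.obj ((sh O).obj P)).obj G))
    (fun {G H} f => by
      refine ((sh O).map_comp _ _).symm.trans ((congrArg (sh O).map ?_).trans ((sh O).map_comp _ _))
      exact (MonoidalCategory.whisker_exchange
        ((fgt O).map f) (η P)).symm)

instance : (fgt O).PreservesMonomorphisms :=
  haveI : PreservesLimitsOfShape WalkingCospan (SheafOfModules.forget.{u} (ModSite.ringSh O)) := inferInstance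
  (inferInstance : (SheafOfModules.forget.{u} (ModSite.ringSh O)).PreservesMonomorphisms)

instance : (sh O).PreservesMonomorphisms :=
  haveI : PreservesFiniteLimits (sh O) :=
    (inferInstance : PreservesFiniteLimits (PresheafOfModules.sheafification.{u} (𝟙 (ModSite.ringSh O).obj)))
  inferInstance

/-- sheafifications of sectionwise flat presheaves are flat -/
theorem isFlat_sh (P : Psh O) (hP : ∀ X : Cᵒᵖ, Module.Flat (O.obj.obj X) (P.obj X)) :
    ModSite.IsFlat ((sh O).obj P) := by
  haveI := preservesMonos_tensorRight P hP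
  rw [isFlat_iff, ← Functor.preservesMonomorphisms.iso_iff (tensorShIso P)]
  infer_instance

theorem exists_epi_isFlat (F : ModSite.Mod O) : ∃ (G : ModSite.Mod O) (π : G ⟶ F), ModSite.IsFlat G ∧ Epi π := by
  obtain ⟨P, π, hP, hπ⟩ := exists_epi_flat (psh F)
  let A := adj O
  refine ⟨(sh O).obj P, (sh O).map π ≫ A.counit.app F, isFlat_sh P hP, ?_⟩
  haveI : IsIso A.counit :=
    (inferInstance : IsIso (PresheafOfModules.sheafificationAdjunction (𝟙 (ModSite.ringSh O).obj)).counit)
  haveI hm : Epi ((sh O).map π) :=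
    haveI : (sh O).PreservesEpimorphisms := Functor.preservesEpimorphisms_of_adjunction A
    inferInstance
  haveI hc : IsIso (A.counit.app F) := (NatIso.isIso_app_of_isIso A.counit F)
  exact @epi_comp _ _ _ _ _ _ hm (A.counit.app F) (@IsIso.epi_of_iso _ _ _ _ _ hc)

/-- `- ⊗ (M ⊗ N) ≅ (- ⊗ M) ⊗ N` -/
noncomputable def assocIso (M N : ModSite.Mod O) :
    (ModSite.tensorBi O).flip.obj M ⋙ (ModSite.tensorBi O).flip.obj N ≅
      (ModSite.tensorBi O).flip.obj (((ModSite.tensorBi O).obj M).obj N) :=
  Functor.isoWhiskerLeft ((fgt O) ⋙ tensorRight (psh M))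
      (shCompTensorIso N).symm ≪≫
    Functor.isoWhiskerLeft (fgt O)
      (Functor.isoWhiskerRight (tensorRightTensor (psh M) (psh N)).symm (sh O)) ≪≫
    tensorShIso (psh M ⊗ psh N)

theorem isFlat_tensor {M N : ModSite.Mod O} (hM : ModSite.IsFlat M) (hN : ModSite.IsFlat N) :
    ModSite.IsFlat (((ModSite.tensorBi O).obj M).obj N) := by
  rw [isFlat_iff, ← Functor.preservesMonomorphisms.iso_iff (assocIso M N)]
  haveI := (isFlat_iff M).1 hM
  haveI := (isFlat_iff N).1 hN
  infer_instance

theorem shortExact_tensor (S : ShortComplex (ModSite.Mod O)) (hS : S.ShortExact) (hF : ModSite.IsFlat S.X₃)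
    (G : ModSite.Mod O) [((ModSite.tensorBi O).flip.obj G).PreservesZeroMorphisms] :
    (S.map ((ModSite.tensorBi O).flip.obj G)).ShortExact := by
  haveI := preservesMonos_obj hF
  obtain ⟨P, π, hP, hπ⟩ := exists_epi_isFlat G
  haveI := (isFlat_iff P).1 hP
  exact shortExact_map_of_flat_X₃ (ModSite.tensorBi O) S hS G π

theorem isFlat_two_of_three (S : ShortComplex (ModSite.Mod O)) (hS : S.ShortExact) (hF : ModSite.IsFlat S.X₃) :
    (ModSite.IsFlat S.X₁ → ModSite.IsFlat S.X₂) ∧ (ModSite.IsFlat S.X₂ → ModSite.IsFlat S.X₁) := by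
  haveI := preservesMonos_obj hF
  have hP : ∀ G : ModSite.Mod O, ∃ (P : ModSite.Mod O) (π : P ⟶ G),
      Epi π ∧ ((ModSite.tensorBi O).flip.obj P).PreservesMonomorphisms := fun G => by
    obtain ⟨P, π, hP, hπ⟩ := exists_epi_isFlat G
    exact ⟨P, π, hπ, (isFlat_iff P).1 hP⟩
  have h := flat_two_of_three (ModSite.tensorBi O) S hS hP
  exact ⟨fun hh => isFlat_of_obj (h.1 (preservesMonos_obj hh)), fun hh => isFlat_of_obj (h.2 (preservesMonos_obj hh))⟩

/-- colimits of flat modules along shapes with exact colimits are flat -/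
theorem isFlat_of_isColimit {K : Type u} [SmallCategory K] [HasExactColimitsOfShape K (ModSite.Mod O)]
    (D : K ⥤ ModSite.Mod O) (hD : ∀ k, ModSite.IsFlat (D.obj k)) (c : Cocone D) (hc : IsColimit c) :
    ModSite.IsFlat c.pt := by
  refine isFlat_of_obj ⟨fun {A B} a _ => ?_⟩
  refine MorphismProperty.IsStableUnderColimitsOfShape.condition (W := MorphismProperty.monomorphisms (ModSite.Mod O))
    _ _ _ _ (isColimitOfPreserves ((ModSite.tensorBi O).flip.obj A) hc)
    (isColimitOfPreserves ((ModSite.tensorBi O).flip.obj B) hc)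
    (Functor.whiskerLeft D ((ModSite.tensorBi O).flip.map a))
    (fun k => ?_) (((ModSite.tensorBi O).obj c.pt).map a) (fun k => ?_)
  · haveI := preservesMonos_obj (hD k)
    exact (inferInstance : Mono (((ModSite.tensorBi O).obj (D.obj k)).map a))
  · exact (((ModSite.tensorBi O).map (c.ι.app k)).naturality a).symm

theorem hasExactColimitsOfShape_filtered (K : Type u) [SmallCategory K] [IsFiltered K] :
    HasExactColimitsOfShape K (ModSite.Mod O) := by
  haveI := Groth.Agent.ShMod.Grothendieck.isGrothendieckAbelian (ModSite.ringSh O)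
  infer_instance

theorem hasExactColimitsOfShape_discrete (ι : Type u) :
    HasExactColimitsOfShape (Discrete ι) (ModSite.Mod O) := by
  haveI := Groth.Agent.ShMod.Grothendieck.isGrothendieckAbelian (ModSite.ringSh O)
  infer_instance

theorem preservesColimits_toSheaf :
    PreservesColimitsOfSize.{u, u} (SheafOfModules.toSheaf.{u} (ModSite.ringSh O) :
      ModSite.Mod O ⥤ Sheaf J AddCommGrpCat.{u}) where
  preservesColimitsOfShape {K} _ := ⟨fun {D} => by
    let R := ModSite.ringSh O
    let A := PresheafOfModules.sheafificationAdjunction (𝟙 R.obj)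
    let F := PresheafOfModules.sheafification.{u} (𝟙 R.obj)
    let D' := D ⋙ (SheafOfModules.forget R ⋙ PresheafOfModules.restrictScalars (𝟙 R.obj))
    let e : D' ⋙ F ≅ D :=
      Functor.associator _ _ _ ≪≫ Functor.isoWhiskerLeft D (asIso A.counit) ≪≫ D.rightUnitor
    haveI : PreservesColimitsOfSize.{u, u} F := A.leftAdjoint_preservesColimits
    haveI : PreservesColimitsOfSize.{u, u} (presheafToSheaf J AddCommGrpCat.{u}) :=
      (CategoryTheory.sheafificationAdjunction J AddCommGrpCat.{u}).leftAdjoint_preservesColimits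
    haveI : PreservesColimit D' (F ⋙ SheafOfModules.toSheaf R) :=
      preservesColimit_of_natIso D' (PresheafOfModules.sheafificationCompToSheaf (𝟙 R.obj)).symm
    haveI : PreservesColimit (D' ⋙ F) (SheafOfModules.toSheaf R) :=
      preservesColimit_of_preserves_colimit_cocone (isColimitOfPreserves F (colimit.isColimit D'))
        (isColimitOfPreserves (F ⋙ SheafOfModules.toSheaf R) (colimit.isColimit D'))
    exact preservesColimit_of_iso_diagram _ e⟩

end Groth.Agent.ModTensor
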