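import Groth.Agent.ModTensor.Extend
import Groth.Agent.ShMod.Grothendieck
import Groth.Prelude.Def_ModSite

/-!
Sheafification of modules inverts `g ⊗ N` for locally bijective `g`; `- ⊗_O N` is a left adjoint.
-/

universe u

open CategoryTheory MonoidalCategory Opposite Limits

namespace Groth.Agent.ModTensor

variable {C : Type u} [SmallCategory C] {J : GrothendieckTopology C} (O : Sheaf J CommRingCat.{u})

/-- presheaves of modules over `O` -/
abbrev Psh := PresheafOfModules.{u} (O.obj ⋙ forget₂ CommRingCat.{u} RingCat.{u})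

/-- sheafification -/
noncomputable abbrev sh : Psh O ⥤ ModSite.Mod O := ModSite.sheafify O

/-- the adjunction -/
noncomputable abbrev adj : sh O ⊣ SheafOfModules.forget (ModSite.ringSh O) ⋙
    PresheafOfModules.restrictScalars (𝟙 (ModSite.ringSh O).obj) :=
  PresheafOfModules.sheafificationAdjunction (𝟙 (ModSite.ringSh O).obj)

theorem isIso_map_of_bijective {P Q : Psh O} (φ : P ⟶ Q)
    (h : ∀ T : Psh O, Presieve.IsSheaf J (T.presheaf ⋙ forget AddCommGrpCat.{u}) →
      Function.Bijective (fun ψ : Q ⟶ T => φ ≫ ψ)) : IsIso ((sh O).map φ) := by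
  have hb : ∀ Z : ModSite.Mod O, Function.Bijective (fun ψ : (sh O).obj Q ⟶ Z => (sh O).map φ ≫ ψ) := fun Z => by
    have hs : Presieve.IsSheaf J ((Z.val.presheaf) ⋙ forget AddCommGrpCat.{u}) :=
      (isSheaf_iff_isSheaf_of_type J _).1
        ((Presheaf.isSheaf_iff_isSheaf_forget J _ (forget AddCommGrpCat.{u})).1 Z.isSheaf)
    have e : (fun ψ : (sh O).obj Q ⟶ Z => (sh O).map φ ≫ ψ) =
        ((adj O).homEquiv P Z).symm ∘ (fun ψ => φ ≫ ψ) ∘ ((adj O).homEquiv Q Z) := funext fun ψ => by
      apply ((adj O).homEquiv P Z).injective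
      rw [Function.comp_apply, Function.comp_apply, Equiv.apply_symm_apply]
      exact (adj O).homEquiv_naturality_left φ ψ
    rw [e]
    exact (((adj O).homEquiv P Z).symm.bijective.comp
      ((h ((SheafOfModules.forget _ ⋙ PresheafOfModules.restrictScalars (𝟙 (ModSite.ringSh O).obj)).obj Z) hs).comp
        ((adj O).homEquiv Q Z).bijective))
  obtain ⟨ψ, hψ⟩ := (hb ((sh O).obj P)).surjective (𝟙 _)
  refine ⟨ψ, hψ, (hb ((sh O).obj Q)).injective ?_⟩
  show (sh O).map φ ≫ ψ ≫ (sh O).map φ = (sh O).map φ ≫ 𝟙 _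
  rw [reassoc_of% hψ, Category.comp_id]

variable {O}

theorem isIso_sh_whiskerRight {P Q : Psh O} (g : P ⟶ Q) (N : Psh O)
    [Presheaf.IsLocallyInjective J ((PresheafOfModules.toPresheaf _).map g)]
    [Presheaf.IsLocallySurjective J ((PresheafOfModules.toPresheaf _).map g)] :
    IsIso ((sh O).map (g ▷ N)) :=
  isIso_map_of_bijective O _ fun _ hT => bijective_comp hT g

theorem isIso_sh_whiskerLeft (N : Psh O) {P Q : Psh O} (g : P ⟶ Q)
    [Presheaf.IsLocallyInjective J ((PresheafOfModules.toPresheaf _).map g)]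
    [Presheaf.IsLocallySurjective J ((PresheafOfModules.toPresheaf _).map g)] :
    IsIso ((sh O).map (N ◁ g)) := by
  haveI := isIso_sh_whiskerRight g N
  have e : (β_ N P).hom ≫ (g ▷ N) ≫ (β_ N Q).inv = N ◁ g := by
    rw [← BraidedCategory.braiding_naturality_right_assoc, Iso.hom_inv_id, Category.comp_id]
  rw [← e, Functor.map_comp, Functor.map_comp]
  infer_instance

/-- the unit of sheafification -/
noncomputable abbrev η (P : Psh O) :
    P ⟶ (SheafOfModules.forget (ModSite.ringSh O) ⋙ PresheafOfModules.restrictScalars (𝟙 (ModSite.ringSh O).obj)).obj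
      ((sh O).obj P) :=
  (adj O).unit.app P

instance (P : Psh O) : Presheaf.IsLocallyInjective J ((PresheafOfModules.toPresheaf _).map (η P)) := by
  show Presheaf.IsLocallyInjective J ((PresheafOfModules.toPresheaf _).map
    ((PresheafOfModules.sheafificationAdjunction (𝟙 (ModSite.ringSh O).obj)).unit.app P))
  rw [PresheafOfModules.toPresheaf_map_sheafificationAdjunction_unit_app]
  exact Presheaf.isLocallyInjective_toSheafify' J _

instance (P : Psh O) : Presheaf.IsLocallySurjective J ((PresheafOfModules.toPresheaf _).map (η P)) := by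
  show Presheaf.IsLocallySurjective J ((PresheafOfModules.toPresheaf _).map
    ((PresheafOfModules.sheafificationAdjunction (𝟙 (ModSite.ringSh O).obj)).unit.app P))
  rw [PresheafOfModules.toPresheaf_map_sheafificationAdjunction_unit_app]
  exact Presheaf.isLocallySurjective_toSheafify' J _

theorem isIso_sh_tensorHom_units (M N : Psh O) : IsIso ((sh O).map (η M ⊗ₘ η N)) := by
  haveI := isIso_sh_whiskerRight (η M) N
  haveI := isIso_sh_whiskerLeft ((SheafOfModules.forget (ModSite.ringSh O) ⋙
    PresheafOfModules.restrictScalars (𝟙 (ModSite.ringSh O).obj)).obj ((sh O).obj M)) (η N)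
  rw [MonoidalCategory.tensorHom_def, Functor.map_comp]
  infer_instance

/-- `sheafify (M ⊗ N) ≅ sheafify M ⊗_O sheafify N` -/
noncomputable def shTensorIso (M N : Psh O) :
    (sh O).obj (M ⊗ N) ≅ ((ModSite.tensorBi O).obj ((sh O).obj M)).obj ((sh O).obj N) :=
  @asIso _ _ _ _ ((sh O).map (η M ⊗ₘ η N)) (isIso_sh_tensorHom_units M N)

variable (N : ModSite.Mod O)

/-- the presheaf underlying `N` -/
noncomputable abbrev psh : Psh O :=
  (SheafOfModules.forget (ModSite.ringSh O) : ModSite.Mod O ⥤ Psh O).obj N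

/-- `sheafify ⋙ (- ⊗_O N) ≅ (- ⊗ N) ⋙ sheafify` -/
noncomputable def shCompTensorIso :
    tensorRight (psh N) ⋙ sh O ≅ sh O ⋙ (ModSite.tensorBi O).flip.obj N :=
  NatIso.ofComponents
    (fun P => (@asIso _ _ _ _ ((sh O).map (η P ▷ psh N)) (isIso_sh_whiskerRight (η P) (psh N)) :
      (sh O).obj (P ⊗ psh N) ≅ ((ModSite.tensorBi O).flip.obj N).obj ((sh O).obj P)))
    (fun {P Q} φ => by
      refine ((sh O).map_comp _ _).symm.trans ((congrArg (sh O).map ?_).trans ((sh O).map_comp _ _))
      exact ((MonoidalCategory.comp_whiskerRight φ (η Q) (psh N)).symm.trans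
        (congrArg (· ▷ psh N) ((adj O).unit.naturality φ))).trans (MonoidalCategory.comp_whiskerRight (η P) _ _))

instance preservesColimits_tensorRight_mod : PreservesColimitsOfSize.{u, u} ((ModSite.tensorBi O).flip.obj N) where
  preservesColimitsOfShape {K} _ := ⟨fun {D} => by
    let D' : K ⥤ Psh O := D ⋙ (SheafOfModules.forget (ModSite.ringSh O) ⋙
      PresheafOfModules.restrictScalars (𝟙 (ModSite.ringSh O).obj))
    haveI : IsIso (adj O).counit :=
      (inferInstance : IsIso (PresheafOfModules.sheafificationAdjunction (𝟙 (ModSite.ringSh O).obj)).counit)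
    let e : D' ⋙ sh O ≅ D :=
      Functor.associator _ _ _ ≪≫ Functor.isoWhiskerLeft D (asIso (adj O).counit) ≪≫ D.rightUnitor
    haveI h0 : PreservesColimitsOfSize.{u, u} (sh O) := (adj O).leftAdjoint_preservesColimits
    haveI : PreservesColimit D' (sh O) := inferInstance
    haveI : PreservesColimitsOfSize.{u, u} (tensorRight (psh N) ⋙ sh O) := comp_preservesColimits _ _
    haveI : PreservesColimit D' (tensorRight (psh N) ⋙ sh O) := inferInstance
    haveI : PreservesColimit D' (sh O ⋙ (ModSite.tensorBi O).flip.obj N) :=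
      preservesColimit_of_natIso D' (shCompTensorIso N)
    haveI : PreservesColimit (D' ⋙ sh O) ((ModSite.tensorBi O).flip.obj N) :=
      preservesColimit_of_preserves_colimit_cocone (isColimitOfPreserves (sh O) (colimit.isColimit D'))
        (isColimitOfPreserves (sh O ⋙ (ModSite.tensorBi O).flip.obj N) (colimit.isColimit D'))
    exact preservesColimit_of_iso_diagram _ e⟩

theorem hasSheafHom : ModSite.HasSheafHom N := by
  haveI := Groth.Agent.ShMod.Grothendieck.isGrothendieckAbelian (ModSite.ringSh O)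
  haveI : WellPowered.{u} (ModSite.Mod O) := IsGrothendieckAbelian.wellPowered _
  haveI : WellPowered.{u} (ModSite.Mod O)ᵒᵖ := Abelian.wellPowered_opposite
  exact isLeftAdjoint_of_preservesColimits_of_isSeparating.{u}
    (P := ObjectProperty.singleton (separator (ModSite.Mod O))) (isSeparator_separator _) _

end Groth.Agent.ModTensor
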