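import Mathlib

/-!
For a locally bijective morphism `g : P ⟶ Q` of presheaves of modules and a sheaf `T`, precomposition
with `g ⊗ N` is a bijection `Hom(Q ⊗ N, T) → Hom(P ⊗ N, T)`.
-/

universe u

open CategoryTheory MonoidalCategory Opposite Limits

namespace Groth.Agent.ModTensor

variable {C : Type u} [SmallCategory C] {J : GrothendieckTopology C} {R : Cᵒᵖ ⥤ CommRingCat.{u}}


variable {P Q N T : (PresheafOfModules.{u} (R ⋙ forget₂ CommRingCat.{u} RingCat.{u}))}

/-- restriction -/
noncomputable abbrev res (M : PresheafOfModules.{u} (R ⋙ forget₂ CommRingCat.{u} RingCat.{u})) {U V : C} (h : V ⟶ U)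
    (x : M.obj (op U)) : M.obj (op V) :=
  M.presheaf.map h.op x

theorem res_comp (M : (PresheafOfModules.{u} (R ⋙ forget₂ CommRingCat.{u} RingCat.{u}))) {U V W : C} (h : V ⟶ U) (k : W ⟶ V) (x : M.obj (op U)) :
    res M k (res M h x) = res M (k ≫ h) x :=
  (ConcreteCategory.congr_hom (M.presheaf.map_comp h.op k.op) x).symm

theorem res_id (M : (PresheafOfModules.{u} (R ⋙ forget₂ CommRingCat.{u} RingCat.{u}))) {U : C} (x : M.obj (op U)) : res M (𝟙 U) x = x :=
  ConcreteCategory.congr_hom (M.presheaf.map_id (op U)) x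

/-- value of a map out of a tensor product on pure tensors -/
noncomputable def ev (f : P ⊗ N ⟶ T) {U : C} (x : P.obj (op U)) (n : N.obj (op U)) : T.obj (op U) :=
  (f.app (op U)).hom (x ⊗ₜ[R.obj (op U)] n)

theorem res_ev (f : P ⊗ N ⟶ T) {U V : C} (h : V ⟶ U) (x : P.obj (op U)) (n : N.obj (op U)) :
    res T h (ev f x n) = ev f (res P h x) (res N h n) :=
  (PresheafOfModules.naturality_apply f h.op (x ⊗ₜ[R.obj (op U)] n)).symm

theorem ev_add_left (f : P ⊗ N ⟶ T) {U : C} (x y : P.obj (op U)) (n : N.obj (op U)) :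
    ev f (x + y) n = ev f x n + ev f y n :=
  (congrArg (f.app (op U)).hom (TensorProduct.add_tmul x y n)).trans (map_add _ _ _)

theorem ev_add_right (f : P ⊗ N ⟶ T) {U : C} (x : P.obj (op U)) (m n : N.obj (op U)) :
    ev f x (m + n) = ev f x m + ev f x n :=
  (congrArg (f.app (op U)).hom (TensorProduct.tmul_add x m n)).trans (map_add _ _ _)

theorem ev_smul_left (f : P ⊗ N ⟶ T) {U : C} (a : R.obj (op U)) (x : P.obj (op U)) (n : N.obj (op U)) :
    ev f (a • x) n = a • ev f x n :=
  (congrArg (f.app (op U)).hom (TensorProduct.smul_tmul' (R := R.obj (op U)) (R' := R.obj (op U)) a x n).symm).trans (map_smul _ a _)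

theorem ev_smul_right (f : P ⊗ N ⟶ T) {U : C} (a : R.obj (op U)) (x : P.obj (op U)) (n : N.obj (op U)) :
    ev f x (a • n) = a • ev f x n :=
  (congrArg (f.app (op U)).hom (TensorProduct.tmul_smul (R := R.obj (op U)) a x n)).trans (map_smul _ a _)

variable (hT : Presieve.IsSheaf J (T.presheaf ⋙ forget AddCommGrpCat.{u})) (g : P ⟶ Q)

include hT in
theorem ext_of_sieve {U : C} (S : Sieve U) (hS : S ∈ J U) {a b : T.obj (op U)}
    (h : ∀ ⦃V : C⦄ (k : V ⟶ U), S k → res T k a = res T k b) : a = b :=
  (hT S hS).isSeparatedFor.ext fun V k hk => h k hk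

theorem res_app {U V : C} (h : V ⟶ U) (p : P.obj (op U)) :
    (g.app (op V)).hom (res P h p) = res Q h ((g.app (op U)).hom p) :=
  PresheafOfModules.naturality_apply g h.op p

variable [Presheaf.IsLocallyInjective J ((PresheafOfModules.toPresheaf _).map g)]
  [Presheaf.IsLocallySurjective J ((PresheafOfModules.toPresheaf _).map g)] (f : P ⊗ N ⟶ T)

include hT in
theorem ev_eq {V : C} {p p' : P.obj (op V)} (h : (g.app (op V)).hom p = (g.app (op V)).hom p')
    (m : N.obj (op V)) : ev f p m = ev f p' m :=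
  ext_of_sieve hT _ (Presheaf.equalizerSieve_mem J ((PresheafOfModules.toPresheaf _).map g) p p' h) fun W k hk => by
    rw [res_ev, res_ev]
    exact congrArg (fun z => ev f z (res N k m)) hk

/-- characterising property of the extension -/
def IsExt {U : C} (s : Q.obj (op U)) (n : N.obj (op U)) (y : T.obj (op U)) : Prop :=
  ∀ ⦃V : C⦄ (h : V ⟶ U) (p : P.obj (op V)), (g.app (op V)).hom p = res Q h s →
    res T h y = ev f p (res N h n)

/-- sieve of lifts -/
noncomputable abbrev liftSieve {U : C} (s : Q.obj (op U)) : Sieve U :=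
  Presheaf.imageSieve ((PresheafOfModules.toPresheaf _).map g) s

theorem liftSieve_mem {U : C} (s : Q.obj (op U)) : liftSieve g s ∈ J U :=
  Presheaf.imageSieve_mem J ((PresheafOfModules.toPresheaf _).map g) s

theorem exists_lift {U V : C} {s : Q.obj (op U)} {k : V ⟶ U} (h : liftSieve g s k) :
    ∃ p : P.obj (op V), (g.app (op V)).hom p = res Q k s := h

include hT in
theorem isExt_unique {U : C} {s : Q.obj (op U)} {n : N.obj (op U)} {y y' : T.obj (op U)}
    (hy : IsExt g f s n y) (hy' : IsExt g f s n y') : y = y' :=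
  ext_of_sieve hT _ (liftSieve_mem (J := J) g s) fun V k hk => by
    obtain ⟨p, hp⟩ := exists_lift g hk
    rw [hy k p hp, hy' k p hp]

include hT in
theorem exists_isExt {U : C} (s : Q.obj (op U)) (n : N.obj (op U)) : ∃ y, IsExt g f s n y := by
  let S := liftSieve g s
  let fam : Presieve.FamilyOfElements (T.presheaf ⋙ forget AddCommGrpCat.{u}) S.arrows :=
    fun V h hh => ev f (Classical.choose hh) (res N h n)
  have hfam : fam.Compatible := by
    intro V₁ V₂ Z g₁ g₂ h₁ h₂ hh₁ hh₂ e
    show res T g₁ (ev f _ (res N h₁ n)) = res T g₂ (ev f _ (res N h₂ n))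
    rw [res_ev, res_ev, res_comp, res_comp, e]
    refine ev_eq hT g f ?_ _
    have e₁ : (g.app (op V₁)).hom (Classical.choose hh₁) = res Q h₁ s := Classical.choose_spec hh₁
    have e₂ : (g.app (op V₂)).hom (Classical.choose hh₂) = res Q h₂ s := Classical.choose_spec hh₂
    rw [res_app, res_app, e₁, e₂, res_comp, res_comp, e]
  have hsh := hT S (liftSieve_mem (J := J) g s)
  refine ⟨hsh.amalgamate fam hfam, fun V h p hp => ?_⟩
  have hh : S h := ⟨p, hp⟩
  refine (hsh.valid_glue hfam h hh).trans (ev_eq hT g f ?_ _)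
  exact (Classical.choose_spec hh).trans hp.symm

/-- the extension -/
noncomputable def extVal {U : C} (s : Q.obj (op U)) (n : N.obj (op U)) : T.obj (op U) :=
  (exists_isExt hT g f s n).choose

theorem extVal_spec {U : C} (s : Q.obj (op U)) (n : N.obj (op U)) : IsExt g f s n (extVal hT g f s n) :=
  (exists_isExt hT g f s n).choose_spec

theorem extVal_add_left {U : C} (s t : Q.obj (op U)) (n : N.obj (op U)) :
    extVal hT g f (s + t) n = extVal hT g f s n + extVal hT g f t n := by
  refine ext_of_sieve hT _ (J.intersection_covering (liftSieve_mem (J := J) g s) (liftSieve_mem (J := J) g t))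
    fun V k hk => ?_
  obtain ⟨p, hp⟩ := exists_lift g hk.1
  obtain ⟨q, hq⟩ := exists_lift g hk.2
  rw [extVal_spec hT g f (s + t) n k (p + q) ((map_add (g.app (op V)).hom p q).trans
    ((congrArg₂ (· + ·) hp hq).trans (map_add (Q.presheaf.map k.op).hom s t).symm))]
  refine (ev_add_left f p q _).trans ?_
  rw [← extVal_spec hT g f s n k p hp, ← extVal_spec hT g f t n k q hq]
  exact (map_add (T.presheaf.map k.op).hom _ _).symm

theorem extVal_add_right {U : C} (s : Q.obj (op U)) (m n : N.obj (op U)) :
    extVal hT g f s (m + n) = extVal hT g f s m + extVal hT g f s n := by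
  refine ext_of_sieve hT _ (liftSieve_mem (J := J) g s) fun V k hk => ?_
  obtain ⟨p, hp⟩ := exists_lift g hk
  rw [extVal_spec hT g f s (m + n) k p hp]
  refine ((congrArg (ev f p) (map_add (N.presheaf.map k.op).hom m n)).trans (ev_add_right f p _ _)).trans ?_
  refine (congrArg₂ (· + ·) (extVal_spec hT g f s m k p hp).symm (extVal_spec hT g f s n k p hp).symm).trans ?_
  exact (map_add (T.presheaf.map k.op).hom _ _).symm

theorem res_smul (M : (PresheafOfModules.{u} (R ⋙ forget₂ CommRingCat.{u} RingCat.{u}))) {U V : C} (h : V ⟶ U) (a : R.obj (op U)) (x : M.obj (op U)) :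
    res M h (a • x) = (R.map h.op).hom a • res M h x :=
  M.map_smul h.op a x

theorem extVal_smul_left {U : C} (a : R.obj (op U)) (s : Q.obj (op U)) (n : N.obj (op U)) :
    extVal hT g f (a • s) n = a • extVal hT g f s n := by
  refine ext_of_sieve hT _ (liftSieve_mem (J := J) g s) fun V k hk => ?_
  obtain ⟨p, hp⟩ := exists_lift g hk
  rw [extVal_spec hT g f (a • s) n k ((R.map k.op).hom a • p) ((map_smul (g.app (op V)).hom _ p).trans
    ((congrArg _ hp).trans (res_smul Q k a s).symm))]
  refine (ev_smul_left f _ p _).trans ?_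
  rw [← extVal_spec hT g f s n k p hp]
  exact (res_smul T k a _).symm

theorem extVal_smul_right {U : C} (a : R.obj (op U)) (s : Q.obj (op U)) (n : N.obj (op U)) :
    extVal hT g f s (a • n) = a • extVal hT g f s n := by
  refine ext_of_sieve hT _ (liftSieve_mem (J := J) g s) fun V k hk => ?_
  obtain ⟨p, hp⟩ := exists_lift g hk
  rw [extVal_spec hT g f s (a • n) k p hp]
  refine ((congrArg (ev f p) (res_smul N k a n)).trans (ev_smul_right f _ p _)).trans ?_
  rw [← extVal_spec hT g f s n k p hp]
  exact (res_smul T k a _).symm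

theorem res_extVal {U W : C} (k : W ⟶ U) (s : Q.obj (op U)) (n : N.obj (op U)) :
    res T k (extVal hT g f s n) = extVal hT g f (res Q k s) (res N k n) := by
  refine isExt_unique hT g f (fun V h p hp => ?_) (extVal_spec hT g f _ _)
  rw [res_comp] at hp
  rw [res_comp, res_comp]
  exact extVal_spec hT g f s n (h ≫ k) p hp

/-- the extended morphism -/
noncomputable def extHom : Q ⊗ N ⟶ T where
  app X := ModuleCat.MonoidalCategory.tensorLift (R := R.obj X) (fun s n => extVal hT g f (U := X.unop) s n)
    (fun s t n => extVal_add_left hT g f s t n) (fun a s n => extVal_smul_left hT g f a s n)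
    (fun s m n => extVal_add_right hT g f s m n) (fun a s n => extVal_smul_right hT g f a s n)
  naturality {X Y} k := ModuleCat.MonoidalCategory.tensor_ext (R := R.obj X) fun s n =>
    (res_extVal hT g f k.unop s n).symm

include hT in
theorem bijective_comp :
    Function.Bijective (fun φ : Q ⊗ N ⟶ T => (g ▷ N) ≫ φ) := by
  refine ⟨fun φ ψ h => ?_, fun f => ⟨extHom hT g f, ?_⟩⟩
  · ext X : 1
    refine ModuleCat.MonoidalCategory.tensor_ext (R := R.obj X) fun s n => ?_
    have key : ∀ φ : Q ⊗ N ⟶ T, IsExt g ((g ▷ N) ≫ φ) (U := X.unop) s n (ev φ s n) := fun φ V k p hp => by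
      rw [res_ev, ← hp]
      rfl
    refine isExt_unique hT g ((g ▷ N) ≫ φ) (key φ) ?_
    intro V k p hp
    exact (key ψ k p hp).trans (congrArg (fun F : P ⊗ N ⟶ T => ev F p (res N k n)) h.symm)
  · ext X : 1
    refine ModuleCat.MonoidalCategory.tensor_ext (R := R.obj X) fun p n => ?_
    have h := extVal_spec hT g f (U := X.unop) ((g.app X).hom p) n (𝟙 X.unop) p (res_id Q _).symm
    rw [res_id, res_id] at h
    exact h

end Groth.Agent.ModTensor
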